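import Mathlib
import Cfsg.Prelude.Def_Classical

set_option autoImplicit false

/-!
# Project P4S (designer helper23): S3466 (10u) - arbitrarily large groups isospectral to `PSp_4(q)`.

`μ(PSp_4(q))`, `q = p ^ n`:  `(q²+1)/(2,q-1)`, `(q²-1)/(2,q-1)`, `p(q+1)`, `p(q-1)`, and `4` if `p = 2`, `9` if `p = 3`.
`InT4 p q m` says that `m` divides one of these numbers.  Shared by the three sub-projects
* P4S  (helper23): `Defs`, Main, `q = 3` (via landed S3439), spectrum of `PSp 2 F`;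
* P4C  : the groups `V ⋊ H` with the same spectrum (three constructions).
-/

namespace Cfsg.Agent.Lib.helper23.P4S

/-- `m` divides a member of `μ(PSp_4(q))`, `q` a power of the prime `p`. -/
def InT4 (p q m : ℕ) : Prop :=
  m ∣ (q ^ 2 + 1) / Nat.gcd 2 (q - 1) ∨ m ∣ (q ^ 2 - 1) / Nat.gcd 2 (q - 1) ∨
    m ∣ p * (q + 1) ∨ m ∣ p * (q - 1) ∨ (p = 2 ∧ m ∣ 4) ∨ (p = 3 ∧ m ∣ 9)

end Cfsg.Agent.Lib.helper23.P4S
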