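import Mathlib
import Cfsg.Agent.Lib.helper23.P4S.Defs
import Cfsg.Agent.Lib.Helper28.O9AFF

set_option autoImplicit false

/-!
# Project P4S / P4C (designer helper23): definitions for the groups `V ⋊ H` isospectral to `PSp_4(q)`.

`E` is a field with `q²` elements (`q = p ^ n`), `φ = frq p n : x ↦ x ^ q`.
* `Aff H = E^ι ⋊ H` for `H ≤ GL ι E` (the semidirect product of helper28's `O9AFF`), `gsum M k = Σ_{i<k} M^i`.
* `rho2M φ A = A ⊗ₖ A.map φ` on `Fin 2 × Fin 2` (`= M₂(E)`, `X ↦ A X (A^φ)ᵀ`), `rho2 φ : SL₂(E) →* GL₄(E)`.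
* `tauM` = the transposition `X ↦ Xᵀ` of `M₂(E)` (permutation matrix of `Prod.swap`), `Tgl` the same in `GL`.
* `H2 φ = range (rho2 φ)` (`≅ Ω₄⁻(q)`), `H2T φ = H2 φ ⊔ ⟨Tgl⟩`.
* `JJ = J₂ ⊗ₖ J₂`, the Gram matrix of the bilinear form of `det` on `M₂(E)`, preserved by `H2T`.
-/

namespace Cfsg.Agent.Lib.helper23.P4S

open Matrix
open scoped Kronecker

/-! ## the affine group -/

section Aff

variable {E : Type*} [Field E] {ι : Type*} [Fintype ι] [DecidableEq ι]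

/-- the natural action of `H ≤ GL ι E` on `ι → E` -/
noncomputable abbrev hlin (H : Subgroup (GL ι E)) : ↥H →* LinearMap.GeneralLinearGroup E (ι → E) :=
  Matrix.GeneralLinearGroup.toLin.toMonoidHom.comp H.subtype

/-- `E^ι ⋊ H` -/
abbrev Aff (H : Subgroup (GL ι E)) : Type _ :=
  Multiplicative (ι → E) ⋊[Cfsg.Agent.Lib.Helper28.O9AFF.phi (hlin H)] ↥H

/-- `Σ_{i<k} M^i` -/
def gsum (M : Matrix ι ι E) (k : ℕ) : Matrix ι ι E := ∑ i ∈ Finset.range k, M ^ i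

end Aff

/-! ## the twisted tensor square `ρ₂` -/

section Rho

variable {R : Type*} [CommRing R]

/-- `ρ₂ A = A ⊗ A^φ` -/
def rho2M (φ : R →+* R) (A : Matrix (Fin 2) (Fin 2) R) : Matrix (Fin 2 × Fin 2) (Fin 2 × Fin 2) R :=
  A ⊗ₖ A.map φ

theorem rho2M_one (φ : R →+* R) : rho2M φ 1 = 1 := by
  unfold rho2M
  rw [Matrix.map_one φ (map_zero φ) (map_one φ), Matrix.one_kronecker_one]

theorem rho2M_mul (φ : R →+* R) (A B : Matrix (Fin 2) (Fin 2) R) :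
    rho2M φ (A * B) = rho2M φ A * rho2M φ B := by
  unfold rho2M
  rw [Matrix.map_mul, Matrix.mul_kronecker_mul]

/-- `ρ₂` as a monoid homomorphism on matrices -/
def rho2Hom (φ : R →+* R) :
    Matrix (Fin 2) (Fin 2) R →* Matrix (Fin 2 × Fin 2) (Fin 2 × Fin 2) R where
  toFun := rho2M φ
  map_one' := rho2M_one φ
  map_mul' := rho2M_mul φ

/-- `ρ₂ : SL₂(R) →* GL₄(R)` -/
def rho2 (φ : R →+* R) : Matrix.SpecialLinearGroup (Fin 2) R →* GL (Fin 2 × Fin 2) R :=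
  (Units.map (rho2Hom φ)).comp Matrix.SpecialLinearGroup.toGL

theorem rho2_coe (φ : R →+* R) (A : Matrix.SpecialLinearGroup (Fin 2) R) :
    ((rho2 φ A : GL (Fin 2 × Fin 2) R) : Matrix (Fin 2 × Fin 2) (Fin 2 × Fin 2) R) = rho2M φ A.1 := rfl

/-- the transposition `X ↦ Xᵀ` of `M₂(R)` -/
def tauM : Matrix (Fin 2 × Fin 2) (Fin 2 × Fin 2) R :=
  Matrix.of fun i j => if i = j.swap then 1 else 0

theorem tauM_mul_self : (tauM : Matrix (Fin 2 × Fin 2) (Fin 2 × Fin 2) R) * tauM = 1 := by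
  ext ⟨i, j⟩ ⟨k, l⟩
  fin_cases i <;> fin_cases j <;> fin_cases k <;> fin_cases l <;>
    simp [tauM, Matrix.mul_apply]

/-- `tauM` in `GL` -/
def Tgl : GL (Fin 2 × Fin 2) R := ⟨tauM, tauM, tauM_mul_self, tauM_mul_self⟩

theorem Tgl_coe : ((Tgl : GL (Fin 2 × Fin 2) R) : Matrix (Fin 2 × Fin 2) (Fin 2 × Fin 2) R) = tauM := rfl

/-- `J₂ = [[0, 1], [-1, 0]]` -/
def J2 : Matrix (Fin 2) (Fin 2) R := !![0, 1; -1, 0]

/-- the Gram matrix of the polar form of `det` on `M₂(R)` -/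
def JJ : Matrix (Fin 2 × Fin 2) (Fin 2 × Fin 2) R := (J2 : Matrix (Fin 2) (Fin 2) R) ⊗ₖ J2

/-- `Ω₄⁻(q)` on `M₂(E)` -/
def H2 (φ : R →+* R) : Subgroup (GL (Fin 2 × Fin 2) R) := (rho2 φ).range

/-- `Ω₄⁻(q)⟨τ⟩` on `M₂(E)` -/
def H2T (φ : R →+* R) : Subgroup (GL (Fin 2 × Fin 2) R) := H2 φ ⊔ Subgroup.zpowers Tgl

/-- the weights of `diag(b, b⁻¹)` on `ρ₂`: `b^(1+q), b^(1-q), b^(q-1), b^(-1-q)` -/
def wt2 {K : Type*} [Field K] (b : K) (q : ℕ) : Fin 2 × Fin 2 → K :=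
  fun j => (![b, b⁻¹] j.1) * (![b, b⁻¹] j.2) ^ q

end Rho

/-! ## the `q`-Frobenius -/

section Frob

variable (E : Type*) [CommRing E] (p : ℕ) [ExpChar E p]

/-- `x ↦ x ^ (p ^ n)` -/
noncomputable def frq (n : ℕ) : E →+* E := iterateFrobenius E p n

theorem frq_apply (n : ℕ) (x : E) : frq E p n x = x ^ p ^ n := iterateFrobenius_def p n x

end Frob

end Cfsg.Agent.Lib.helper23.P4S
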