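import Mathlib
import Cfsg.Agent.Lib.helper23.P4S.DefsC
import Cfsg.Agent.Lib.Helper22.P4CAFF1
import Cfsg.Agent.Lib.Helper22.P4CAFF2
import Cfsg.Agent.Lib.helper15.P4CAFF3
import Cfsg.Agent.Lib.Helper26.P4CGEN
import Cfsg.Agent.Lib.helper2.P4CEVU
import Cfsg.Agent.Lib.Helper27.P4CEVL
import Cfsg.Agent.Lib.Helper20.P4CEV4

set_option autoImplicit false

/-!
# Project P4C (designer helper23): `constr_even` - a group `E^4 ⋊ Ω₄⁻(q)` isospectral to `PSp_4(q)`, `q = 2^n ≥ 4`.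
-/

namespace Cfsg.Agent.Lib.helper23.P4S

open Matrix

/-- EV final -/
theorem constr_even (n : ℕ) (hn : 2 ≤ n) :
    ∃ (G : Type) (_ : Group G) (_ : Finite G) (K : Subgroup G), K.Normal ∧ K ≠ ⊥ ∧ Group.IsSolvable K ∧
      ∀ m : ℕ, m ∈ Set.range (orderOf : G → ℕ) ↔ InT4 2 (2 ^ n) m := by
  classical
  let E := GaloisField 2 (2 * n)
  letI : Fintype E := Fintype.ofFinite E
  have hE : Fintype.card E = 2 ^ (2 * n) := by
    rw [← Nat.card_eq_fintype_card]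
    exact GaloisField.card 2 (2 * n) (by omega)
  let H := H2 (frq E 2 n)
  haveI : Finite (Aff H) := aff_finite H
  obtain ⟨K, hKn, hK, hKs⟩ := aff_normal H
  refine ⟨Aff H, inferInstance, inferInstance, K, hKn, hK, hKs, fun m => ?_⟩
  constructor
  · intro hm
    rcases (aff_spec 2 H m).1 hm with ⟨g, hg, rfl⟩ | ⟨g, hg, rfl, hne⟩
    · exact (ev_upper n (by omega) hE g hg).1
    · exact (ev_upper n (by omega) hE g hg).2 hne
  · intro hm
    obtain ⟨⟨g1, hg1, h1⟩, ⟨g2, hg2, h2⟩, ⟨g3, hg3, h3, h3'⟩, ⟨g4, hg4, h4, h4'⟩⟩ := ev_lower n hn hE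
    obtain ⟨g5, hg5, h5, h5'⟩ := ev_four (frq E 2 n)
    have hgcd : Nat.gcd 2 (2 ^ n - 1) = 1 := by
      have : Odd (2 ^ n - 1) := by
        have h1 : Even (2 ^ n) := (Nat.even_pow' (by omega)).2 even_two
        have h2 : 1 ≤ 2 ^ n := Nat.one_le_two_pow
        obtain ⟨k, hk⟩ := h1
        exact ⟨k - 1, by omega⟩
      exact Nat.coprime_two_left.2 this
    refine spec_of_gens 2 (2 ^ n) ?_ ?_ ?_ ?_ ?_ ?_ m hm
    · rw [hgcd, Nat.div_one]
      exact (aff_spec 2 H _).2 (Or.inl ⟨g1, hg1, h1⟩)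
    · rw [hgcd, Nat.div_one]
      exact (aff_spec 2 H _).2 (Or.inl ⟨g2, hg2, h2⟩)
    · exact (aff_spec 2 H _).2 (Or.inr ⟨g3, hg3, by rw [h3], h3'⟩)
    · exact (aff_spec 2 H _).2 (Or.inr ⟨g4, hg4, by rw [h4], h4'⟩)
    · intro _
      exact (aff_spec 2 H _).2 (Or.inr ⟨g5, hg5, by rw [h5], by rw [h5]; exact h5'⟩)
    · intro h; omega

end Cfsg.Agent.Lib.helper23.P4S
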