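import Mathlib
import Cfsg.Agent.Lib.helper23.P4S.DefsC
import Cfsg.Agent.Lib.Helper22.P4CAFF1
import Cfsg.Agent.Lib.Helper22.P4CAFF2
import Cfsg.Agent.Lib.helper15.P4CAFF3
import Cfsg.Agent.Lib.Helper26.P4CGEN
import Cfsg.Agent.Lib.Helper25.P4CR8
import Cfsg.Agent.Lib.Helper27.P4CP5IN
import Cfsg.Agent.Lib.helper8.P4CP5OUT
import Cfsg.Agent.Lib.helper15.P4CP5L

set_option autoImplicit false

/-!
# Project P4C (designer helper23): `constr_ge5` - a group `E^4 ⋊ Ω₄⁻(q)⟨τ⟩` isospectral to `PSp_4(q)`, `p ≥ 5`.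
-/

namespace Cfsg.Agent.Lib.helper23.P4S

open Matrix

/-- P5 final -/
theorem constr_ge5 (p n : ℕ) [Fact p.Prime] (hp : 5 ≤ p) (hn : 1 ≤ n) :
    ∃ (G : Type) (_ : Group G) (_ : Finite G) (K : Subgroup G), K.Normal ∧ K ≠ ⊥ ∧ Group.IsSolvable K ∧
      ∀ m : ℕ, m ∈ Set.range (orderOf : G → ℕ) ↔ InT4 p (p ^ n) m := by
  classical
  have hpp : p.Prime := Fact.out
  let E := GaloisField p (2 * n)
  letI : Fintype E := Fintype.ofFinite E
  have hE : Fintype.card E = p ^ (2 * n) := by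
    rw [← Nat.card_eq_fintype_card]
    exact GaloisField.card p (2 * n) (by omega)
  have hφ : ∀ x : E, frq E p n (frq E p n x) = x := by
    intro x
    rw [frq_apply, frq_apply, ← pow_mul, ← pow_add, ← two_mul, ← hE]
    exact FiniteField.pow_card x
  let H := H2T (frq E p n)
  haveI : Finite (Aff H) := aff_finite H
  obtain ⟨K, hKn, hK, hKs⟩ := aff_normal H
  refine ⟨Aff H, inferInstance, inferInstance, K, hKn, hK, hKs, fun m => ?_⟩
  have hup : ∀ g ∈ H, InT4 p (p ^ n) (orderOf g) ∧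
      (gsum ((g : GL (Fin 2 × Fin 2) E) : Matrix (Fin 2 × Fin 2) (Fin 2 × Fin 2) E) (orderOf g) ≠ 0 →
        InT4 p (p ^ n) (p * orderOf g)) := by
    intro g hg
    obtain ⟨A, rfl | rfl⟩ := (mem_H2T (frq E p n) hφ g).1 hg
    · exact p5_inner p hp n hn hE A
    · exact p5_outer p hp n hn hE A
  constructor
  · intro hm
    rcases (aff_spec p H m).1 hm with ⟨g, hg, rfl⟩ | ⟨g, hg, rfl, hne⟩
    · exact (hup g hg).1
    · exact (hup g hg).2 hne
  · intro hm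
    obtain ⟨⟨g1, hg1, h1⟩, ⟨g2, hg2, h2⟩, ⟨g3, hg3, h3, h3'⟩, ⟨g4, hg4, h4, h4'⟩⟩ := p5_lower p hp n hn hE
    have hgcd : Nat.gcd 2 (p ^ n - 1) = 2 := by
      have hodd : Odd (p ^ n) := (hpp.odd_of_ne_two (by omega)).pow
      obtain ⟨k, hk⟩ := hodd
      have : p ^ n - 1 = 2 * k := by omega
      rw [this]
      exact Nat.gcd_mul_right_left 2 k ▸ Nat.gcd_mul_right_right k 2 ▸ by simp
    refine spec_of_gens p (p ^ n) ?_ ?_ ?_ ?_ ?_ ?_ m hm
    · rw [hgcd]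
      exact (aff_spec p H _).2 (Or.inl ⟨g1, hg1, h1⟩)
    · rw [hgcd]
      exact (aff_spec p H _).2 (Or.inl ⟨g2, hg2, h2⟩)
    · exact (aff_spec p H _).2 (Or.inr ⟨g3, hg3, by rw [h3], h3'⟩)
    · exact (aff_spec p H _).2 (Or.inr ⟨g4, hg4, by rw [h4], h4'⟩)
    · intro h; omega
    · intro h; omega

end Cfsg.Agent.Lib.helper23.P4S
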