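import Mathlib
import Cfsg.Agent.Lib.helper23.P4S.Defs
import Cfsg.Agent.Lib.helper23.P4S.MainEV
import Cfsg.Agent.Lib.helper23.P4S.MainP5
import Cfsg.Agent.Lib.helper6.P4TMain

set_option autoImplicit false

/-!
# Project P4C (designer helper23): `constr` = `constr_even` + `constr_ge5` + helper6's `constr_three`.
-/

namespace Cfsg.Agent.Lib.helper23.P4S

/-- CONSTR -/
theorem constr (p n : ℕ) [Fact p.Prime] (hn : 1 ≤ n) (hq : 4 ≤ p ^ n) (h3 : p = 3 → Even n) :
    ∃ (G : Type) (_ : Group G) (_ : Finite G) (K : Subgroup G), K.Normal ∧ K ≠ ⊥ ∧ Group.IsSolvable K ∧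
      ∀ m : ℕ, m ∈ Set.range (orderOf : G → ℕ) ↔ InT4 p (p ^ n) m := by
  have hpp : p.Prime := Fact.out
  by_cases h2 : p = 2
  · subst h2
    have hn2 : 2 ≤ n := by
      by_contra h
      have : n = 1 := by omega
      subst this
      omega
    exact constr_even n hn2
  · by_cases h33 : p = 3
    · subst h33
      obtain ⟨t, ht⟩ := h3 rfl
      have ht1 : 1 ≤ t := by omega
      have := constr_three t ht1
      rw [show 2 * t = n by omega] at this
      exact this
    · have h5 : 5 ≤ p := by
        have h2' := hpp.two_le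
        by_contra h
        have : p = 4 := by omega
        subst this
        exact absurd hpp (by decide)
      exact constr_ge5 p n h5 hn

end Cfsg.Agent.Lib.helper23.P4S
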