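import Mathlib
import Cfsg.Prelude.Def_Classical
import Cfsg.Agent.Lib.helper23.P4S.Defs
import Cfsg.Agent.Lib.Helper26.P4CGEN
import Cfsg.Agent.Lib.Helper11.P4SU5
import Cfsg.Agent.Lib.Helper22.P4SL2
import Cfsg.Agent.Lib.Helper29.P4SL3A
import Cfsg.Agent.Lib.Helper29.P4SL3B
import Cfsg.Agent.Lib.helper14.P4SL4A
import Cfsg.Agent.Lib.helper14.P4SL4B

set_option autoImplicit false

/-!
# Project P4S (designer helper23), row SPEC: the spectrum of `PSp 2 F` is `{m | InT4 p (card F) m}`.
-/

namespace Cfsg.Agent.Lib.helper23.P4S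

/-- SPEC -/
theorem psp4_spec {F : Type*} [Field F] [Fintype F] (p : ℕ) [Fact p.Prime] [CharP F p] (m : ℕ) :
    m ∈ Set.range (orderOf : Cfsg.PSp 2 F → ℕ) ↔ InT4 p (Fintype.card F) m := by
  classical
  constructor
  · rintro ⟨y, rfl⟩
    obtain ⟨x, rfl⟩ := QuotientGroup.mk_surjective y
    exact sp4_upper p x
  · intro hm
    obtain ⟨h1, h2⟩ := exists_torus (F := F)
    have h34 : (∃ y : Cfsg.PSp 2 F, orderOf y = p * (Fintype.card F + 1)) ∧
        (∃ y : Cfsg.PSp 2 F, orderOf y = p * (Fintype.card F - 1)) := by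
      by_cases hp2 : p = 2
      · subst hp2
        exact exists_mixed_two
      · exact exists_mixed_odd p hp2
    refine spec_of_gens p (Fintype.card F) h1 h2 h34.1 h34.2 ?_ ?_ m hm
    · intro hp2
      subst hp2
      exact exists_four
    · intro hp3
      subst hp3
      exact exists_nine

end Cfsg.Agent.Lib.helper23.P4S
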